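import Groth.Agent.ResProp.EF.K935.Point
import Groth.Agent.ResProp.EF.K926.HRes
import Groth.Agent.ResProp.EF.K353.Defs

/-!
# F4, last step: residue fields ⇒ all classes ⇒ `Chart.Hit`

* `HL_self` : killed with coefficients in (resolutions of) all residue fields ⇒ killed.
* `hit_of_hits` : `Hits TT BddP (H^0 ∘ us)` with `TT ≤ TTor` gives `X.Hit`.
* `hit_of_out` : the output of OverZ (`K353.Out` for the residue fields) gives `X.Hit`.
-/

set_option autoImplicit false

universe w'' w' w v u t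

open CategoryTheory CategoryTheory.Limits CategoryTheory.Pretriangulated HomologicalComplex CochainComplex

attribute [local instance] HasDerivedCategory.standard

namespace Groth.Agent.ResProp.EF.K935

open Groth.Agent.ResProp.EF.K294 Groth.Agent.ResProp.EF.K894 Groth.Agent.ResProp.EF.F5 Groth.Agent.ResProp.EF.K926
open Groth.Agent.PerfB.RingKFlat Groth.Agent.Dcoh.CxFun Groth.Agent.Dcoh.KFlatAbs MonoidalCategory

section

variable {A : Type u} [CommRing A] {D : Type t} [Category.{v} D] {good : MorphismProperty D}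

/-- from coefficients `Res A` to no coefficients -/
theorem HL_of_res {V : D ⥤ CM A} (H : HL good (V ⋙ tr ((Res A).obj (𝟙_ (ModuleCat.{u} A))))) : HL good V := by
  have h1 := kfl_right ((Res A).obj (𝟙_ (ModuleCat.{u} A))) 0 (flat_res_X _)
  have h0 : Module.Flat A (𝟙_ (ModuleCat.{u} A)) := inferInstanceAs (Module.Flat A A)
  have h2 : KFl (TR A) ((single (ModuleCat.{u} A) (ComplexShape.up ℤ) 0).obj (𝟙_ (ModuleCat.{u} A))) := by
    refine kfl_right _ 0 fun n => ?_
    by_cases hn : n = 0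
    · subst hn
      exact Module.Flat.of_linearEquiv
        (singleObjXSelf (ComplexShape.up ℤ) 0 (𝟙_ (ModuleCat.{u} A))).toLinearEquiv
    · have : Subsingleton (((single (ModuleCat.{u} A) (ComplexShape.up ℤ) 0).obj (𝟙_ (ModuleCat.{u} A))).X n) :=
        ModuleCat.subsingleton_of_isZero (isZero_single_obj_X _ _ _ _ hn)
      infer_instance
  have := quasiIso_aug (𝟙_ (ModuleCat.{u} A))
  have h3 := (HL.trQuasiIso (W := V) (aug (𝟙_ (ModuleCat.{u} A))) h1 h2).1 H
  exact HL.of_iso (Functor.isoWhiskerLeft V (HL.unitIso A) ≪≫ V.rightUnitor) h3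

/-- **C4** -/
theorem HL_self [IsNoetherianRing A] [good.IsMultiplicative] {V : D ⥤ CM A}
    (hk : ∀ (q : Ideal A) [q.IsPrime], HL good (V ⋙ tr ((Res A).obj (ModuleCat.of A q.ResidueField)))) :
    HL good V :=
  HL_of_res fun j => TorFam.self (torFamOn V) (fun q _ j => hk q j) j

end

section

variable {A : Type u} [CommRing A] {C : Type v} [Category.{w} C] [Abelian C] {X : Chart A C}

lemma bdd_single (Z : C) : Bdd ((single C (ComplexShape.up ℤ) 0).obj Z) := ⟨0, 0, inferInstance, inferInstance⟩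

/-- hits of the classes of `H^0(us Z[0])` in elementary terms -/
theorem isHit_of_class (X : Chart A C) {Z : C} (z : X.us.obj Z)
    (H : ∀ y : (X.usC.obj ((single C (ComplexShape.up ℤ) 0).obj Z)).homology 0, ∃ (T : CochainComplex C ℤ)
      (g : T ⟶ (single C (ComplexShape.up ℤ) 0).obj Z) (t : (X.usC.obj T).homology 0),
        (∃ a, TorGE a (X.usC.obj T)) ∧ (homologyMap (X.usC.map g) 0).hom t = y) :
    ∃ (a : ℤ) (T : CochainComplex C ℤ), TorGE a (X.usC.obj T) ∧ X.IsHit T z := by
  set Y : CochainComplex C ℤ := (single C (ComplexShape.up ℤ) 0).obj Z with hY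
  let S : CM A := X.usC.obj Y
  have hd : ∀ i j, S.d i j = 0 := fun i j => by
    change X.us.map (Y.d i j) = 0
    rw [hY, single_obj_d, Functor.map_zero]
  let e : X.us.obj Z ≅ S.X 0 := X.us.mapIso (singleObjXSelf (ComplexShape.up ℤ) 0 Z).symm
  have : IsIso (S.iCycles 0) := S.isIso_iCycles 0 1 (by simp) (hd 0 1)
  have : IsIso (S.homologyπ 0) := S.isIso_homologyπ (-1) 0 (by simp) (hd (-1) 0)
  let z' : S.X 0 := e.hom.hom z
  let c : S.cycles 0 := (inv (S.iCycles 0)).hom z'
  have hc : (S.iCycles 0).hom c = z' := by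
    have := congrArg (fun a => a.hom z') (IsIso.inv_hom_id (S.iCycles 0))
    simpa only [ModuleCat.hom_comp, LinearMap.comp_apply, ModuleCat.hom_id, LinearMap.id_apply] using this
  obtain ⟨T, g, t, ⟨a, ha⟩, ht⟩ := H ((S.homologyπ 0).hom c)
  obtain ⟨ct, hct⟩ := (ModuleCat.epi_iff_surjective ((X.usC.obj T).homologyπ 0)).1 inferInstance t
  have h1 := comp_eq_apply (homologyπ_naturality (X.usC.map g) 0) ct
  have h2 : (cyclesMap (X.usC.map g) 0).hom ct = c := by
    apply (ModuleCat.mono_iff_injective (S.homologyπ 0)).1 inferInstance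
    refine Eq.trans ?_ ht
    rw [← hct]
    exact h1.symm
  have h3 := comp_eq_apply (cyclesMap_i (X.usC.map g) 0) ct
  refine ⟨a, T, ha, ⟨g.f 0 ≫ (singleObjXSelf (ComplexShape.up ℤ) 0 Z).hom, ((X.usC.obj T).iCycles 0).hom ct, ?_, ?_, ?_⟩⟩
  · have h4 := g.comm (-1) 0
    rw [← Category.assoc, ← h4, single_obj_d, comp_zero, zero_comp]
  · have h5 := congrArg (fun b => b.hom ct) ((X.usC.obj T).iCycles_d 0 1)
    simp only [ModuleCat.hom_comp, LinearMap.comp_apply, ModuleCat.hom_zero, LinearMap.zero_apply] at h5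
    exact h5
  · have h6 : (X.us.map (g.f 0)).hom (((X.usC.obj T).iCycles 0).hom ct) = z' := by
      refine Eq.trans ?_ hc
      rw [← h2]
      exact h3.symm
    have h7 : ∀ u : X.us.obj (T.X 0), (X.us.map (g.f 0 ≫ (singleObjXSelf (ComplexShape.up ℤ) 0 Z).hom)).hom u =
        (X.us.map (singleObjXSelf (ComplexShape.up ℤ) 0 Z).hom).hom ((X.us.map (g.f 0)).hom u) := fun u => by
      rw [Functor.map_comp]
      rfl
    refine (h7 _).trans ((congrArg (X.us.map (singleObjXSelf (ComplexShape.up ℤ) 0 Z).hom).hom h6).trans ?_)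
    exact iso_inv_apply e.symm z

/-- **hits of all classes of `H^0` give `X.Hit`** -/
theorem hit_of_hits {TT : ObjectProperty (DerivedCategory C)} (hTT : TT ≤ K10.TTor X)
    (H : Hits TT (BddP C) (X.usC ⋙ hf A 0)) : X.Hit := fun Z z =>
  isHit_of_class X z fun y => by
    obtain ⟨T, -, hT, g, t, ht⟩ := H _ (bdd_single Z) y
    exact ⟨T, g, t, (K10.tTor_Q_iff X T).1 (hTT _ hT), ht⟩

/-- the output of OverZ as hits -/
theorem hits_of_out (L : CM A) (j : ℤ) (H : K353.Out X.us L j) :
    Hits (K10.TTor X) (BddP C) (X.usC ⋙ tr L ⋙ hf A j) := by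
  intro Y hY y
  obtain ⟨T, f, t, a, hT, ha, -, ht⟩ := H Y hY y
  exact ⟨T, hT, (K10.tTor_Q_iff X T).2 ⟨a, ha⟩, f, t, ht⟩

/-- **OverZ ⇒ Hit** -/
theorem hit_of_out [IsNoetherianRing A]
    (H : ∀ (q : Ideal A) [q.IsPrime] (j : ℤ), K353.Out X.us ((Res A).obj (ModuleCat.of A q.ResidueField)) j) :
    X.Hit := by
  refine hit_of_hits (TT := K10.TTor X) le_rfl (hits_of_HL closed_bdd (HL_self fun q _ j => ?_) 0)
  exact LL_of_hits (h := X.usC ⋙ tr ((Res A).obj (ModuleCat.of A q.ResidueField)) ⋙ hf A j) closed_bdd.toConeClosed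
    (fun f Hf => hinv X _ j f Hf) (hits_of_out _ j (H q j))

end

end Groth.Agent.ResProp.EF.K935
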