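import Groth.Agent.ResProp.EF.K935.Perf
import Groth.Agent.ResProp.EF.K894.C3
import Groth.Agent.Dcoh.CxFun

/-!
# The point form (S16912, F4 / OverZ)
-/

set_option autoImplicit false
set_option backward.defeqAttrib.useBackward true
set_option backward.isDefEq.respectTransparency false

universe w'' w' w v u t

open CategoryTheory CategoryTheory.Limits CategoryTheory.Pretriangulated HomologicalComplex CochainComplex

attribute [local instance] HasDerivedCategory.standard

namespace Groth.Agent.ResProp.EF.K935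

open Groth.Agent.ResProp.EF.K294 Groth.Agent.ResProp.EF.K894 Groth.Agent.ResProp.EF.F5
open Groth.Agent.PerfB.RingKFlat Groth.Agent.Dcoh.CxFun

section

variable {A : Type u} [CommRing A] {C : Type v} [Category.{w} C] [Abelian C] (X : Chart A C)

lemma cocone_distinguished {K L : CochainComplex C ℤ} (f : K ⟶ L) :
    (HomotopyCategory.quotient C (ComplexShape.up ℤ)).mapTriangle.obj (mappingCocone.triangle f) ∈ distTriang _ := by
  rw [rotate_distinguished_triangle]
  exact isomorphic_distinguished _ (HomotopyCategory.mappingCone_triangleh_distinguished f) _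
    ((HomotopyCategory.quotient C (ComplexShape.up ℤ)).mapTriangleRotateIso.app _ ≪≫
    (HomotopyCategory.quotient C (ComplexShape.up ℤ)).mapTriangle.mapIso (mappingCocone.rotateTriangleIso f))

/-- the cohomology functor on the homotopy category -/
noncomputable abbrev FH (G : CM A ⥤ CM A) [HtpyFunctor G] (j : ℤ) :
    HomotopyCategory C (ComplexShape.up ℤ) ⥤ ModuleCat.{u} A :=
  X.us.mapHomotopyCategory (ComplexShape.up ℤ) ⋙ mapH G ⋙
    HomotopyCategory.homologyFunctor (ModuleCat.{u} A) (ComplexShape.up ℤ) j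

/-- its restriction to complexes -/
noncomputable def FHiso (G : CM A ⥤ CM A) [HtpyFunctor G] (j : ℤ) :
    HomotopyCategory.quotient C (ComplexShape.up ℤ) ⋙ FH X G j ≅ X.usC ⋙ G ⋙ hf A j :=
  Functor.isoWhiskerRight (X.us.mapHomotopyCategoryFactors (ComplexShape.up ℤ))
      (mapH G ⋙ HomotopyCategory.homologyFunctor (ModuleCat.{u} A) (ComplexShape.up ℤ) j) ≪≫
    Functor.isoWhiskerLeft X.usC (Functor.isoWhiskerRight (mapHFactors G)
      (HomotopyCategory.homologyFunctor (ModuleCat.{u} A) (ComplexShape.up ℤ) j)) ≪≫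
    Functor.isoWhiskerLeft (X.usC ⋙ G) (HomotopyCategory.homologyFunctorFactors (ModuleCat.{u} A) (ComplexShape.up ℤ) j)

/-- exactness on cocones -/
lemma hexG (G : CM A ⥤ CM A) [HtpyFunctor G] [G.CommShift ℤ] [G.PreservesZeroMorphisms] [SplitTriFunctor G]
    (j : ℤ) {K L : CochainComplex C ℤ} (f : K ⟶ L) (y : (X.usC ⋙ G ⋙ hf A j).obj K)
    (hy : ((X.usC ⋙ G ⋙ hf A j).map f).hom y = 0) :
    ∃ t : (X.usC ⋙ G ⋙ hf A j).obj (mappingCocone f),
      ((X.usC ⋙ G ⋙ hf A j).map (mappingCocone.fst f)).hom t = y := by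
  have h1 := (FH X G j).map_distinguished_exact _ (cocone_distinguished f)
  have h2 := (ShortComplex.moduleCat_exact_iff _).1 h1 (((FHiso X G j).inv.app K).hom y) (by
    have h3 := comp_eq_apply ((FHiso X G j).inv.naturality f) y
    refine h3.symm.trans ?_
    rw [hy, map_zero])
  obtain ⟨t, ht⟩ := h2
  refine ⟨((FHiso X G j).hom.app (mappingCocone f)).hom t, ?_⟩
  have h4 := comp_eq_apply ((FHiso X G j).hom.naturality (mappingCocone.fst f)) t
  refine h4.symm.trans ?_
  have h5 : ((FHiso X G j).hom.app K).hom (((FHiso X G j).inv.app K).hom y) = y :=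
    iso_inv_apply ((FHiso X G j).app K) y
  exact (congrArg ((FHiso X G j).hom.app K).hom ht).trans h5

variable {X}
variable {TT : ObjectProperty (DerivedCategory C)} {P : ObjectProperty (CochainComplex C ℤ)}

/-- **killed ⇒ hits**, with coefficients -/
theorem hits_of_HL_tr [TT.IsTriangulated] [TT.IsClosedUnderIsomorphisms] (hP : Closed P) (L : CM A)
    (H : HL (goodP TT P) (wP X P ⋙ tr L)) (j : ℤ) : Hits TT P (X.usC ⋙ tr L ⋙ hf A j) :=
  hits_of_LL hP.toConeClosed (fun f y hy => hexG X (tr L) j f y hy) (H j)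

/-- **point form**: all classes with values in a residue field are hit by perfect complexes. -/
theorem exists_perfT_point (N : CM A) (b : ℤ) [N.IsStrictlyLE b] (hN : ∀ n, Module.Flat A (N.X n))
    (H : AllHit X N) {k : Type u} [Field k] [Algebra A k] (i : ℤ)
    (hi : ¬ ((((TR A).flip.obj (ModuleCat.of A k)).mapHomologicalComplex (ComplexShape.up ℤ)).obj N).ExactAt i)
    (L : CM A) (c : ℤ) [L.IsStrictlyLE c] (hL : ∀ n, Module.Flat A (L.X n))
    (ε : L ⟶ (single (ModuleCat.{u} A) (ComplexShape.up ℤ) 0).obj (ModuleCat.of A k)) [QuasiIso ε]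
    (j : ℤ) (Y : CochainComplex C ℤ) (hY : Bdd Y) (y : (tens (X.usC.obj Y) L).homology j) :
    ∃ (T : CochainComplex C ℤ) (p : T ⟶ Y) (t : (tens (X.usC.obj T) L).homology j), PerfT X T ∧
      (homologyMap ((tr L).map (X.usC.map p)) j).hom t = y := by
  have h1 : HL (goodP (TP X) (BddP C)) (wP X (BddP C) ⋙ tr N) := HL_of_hits closed_bdd N (hits_of_allHit H)
  have h2 : HL (goodP (TP X) (BddP C)) (wP X (BddP C) ⋙ tr L) := HL.fibre N b hN h1 i hi L c hL ε
  obtain ⟨T, hT, hTT, g, t, ht⟩ := hits_of_HL_tr closed_bdd L h2 j Y hY y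
  exact ⟨T, g, t, (perfT_iff' X T).2 ⟨hT, hTT⟩, ht⟩

end

end Groth.Agent.ResProp.EF.K935
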