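import Groth.Agent.ResProp.EF.K935.F4
import Groth.Agent.ResProp.EF.K573.PerfExt
import Groth.Agent.ResProp.EF.K10.TTor

/-!
# The perfect class and the bounded complexes (S16912, F4)

`TP X E` : `us E` is perfect. `Hits (TP X) Bdd h` is the same as: every class is hit by some `T` with `PerfT X T`.
-/

set_option autoImplicit false

universe w'' w' w v u t

open CategoryTheory CategoryTheory.Limits CategoryTheory.Pretriangulated HomologicalComplex CochainComplex

attribute [local instance] HasDerivedCategory.standard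

namespace Groth.Agent.ResProp.EF.K935

open Groth.Agent.ResProp.EF.K294 Groth.Agent.ResProp.EF.K894 Groth.Agent.ResProp.EF.F5
open Groth.Agent.PerfB.RingKFlat

section

variable (A : Type u) [CommRing A]

/-- perfect complexes of `A`-modules -/
def PD : ObjectProperty (DerivedCategory (ModuleCat.{u} A)) := fun E => DRing.IsPerfect A E

instance : (PD A).IsClosedUnderIsomorphisms where
  of_iso e h := Groth.Agent.LoccohB.PerfTri.isPerfect_of_iso e h

instance : (PD A).ContainsZero where
  exists_zero := by
    obtain ⟨Z, hZ⟩ := HasZeroObject.zero (C := CM A)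
    refine ⟨DerivedCategory.Q.obj Z, DerivedCategory.Q.map_isZero hZ, Z, 0, 0, fun i _ => ?_, fun n => ?_,
      ⟨Iso.refl _⟩⟩
    · exact (eval _ _ i).map_isZero hZ
    · have h : IsZero (Z.X n) := (eval _ _ n).map_isZero hZ
      have : Subsingleton (Z.X n) := ModuleCat.subsingleton_of_isZero h
      exact ⟨inferInstance, inferInstance⟩

instance : (PD A).IsStableUnderShift ℤ where
  isStableUnderShiftBy n := { le_shift := fun _ h => Groth.Agent.LoccohB.PerfTri.isPerfect_shift n h }

instance : (PD A).IsTriangulatedClosed₂ := .mk' fun _ hT h₁ h₃ =>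
  Groth.Agent.LoccohB.PerfTri.isPerfect_obj₂ hT h₁ h₃

instance : (PD A).IsTriangulated where

end

section

variable {A : Type u} [CommRing A] {C : Type v} [Category.{w} C] [Abelian C] (X : Chart A C)
variable [HasDerivedCategory.{w'} C]

/-- objects of `D(C)` which are perfect on the chart -/
def TP : ObjectProperty (DerivedCategory C) := (PD A).inverseImage X.us.mapDerivedCategory

instance : (TP X).IsClosedUnderIsomorphisms :=
  inferInstanceAs ((PD A).inverseImage X.us.mapDerivedCategory).IsClosedUnderIsomorphisms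

instance : (TP X).IsTriangulated :=
  inferInstanceAs ((PD A).inverseImage X.us.mapDerivedCategory).IsTriangulated

theorem tP_Q_iff (T : CochainComplex C ℤ) :
    TP X (DerivedCategory.Q.obj T) ↔ DRing.IsPerfect A (DRing.toD (X.usC.obj T)) :=
  (PD A).prop_iff_of_iso (X.us.mapDerivedCategoryFactors.app T)

theorem perfT_iff' (T : CochainComplex C ℤ) : PerfT X T ↔ Bdd T ∧ TP X (DerivedCategory.Q.obj T) := by
  rw [tP_Q_iff]
  exact K573.perfT_iff X T

variable (C) in
/-- bounded complexes -/
def BddP : ObjectProperty (CochainComplex C ℤ) := Bdd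

omit [HasDerivedCategory.{w'} C] in
theorem closed_bdd : Closed (BddP C) where
  cone f h1 h2 := K573.Bdd.mappingCone f h1 h2
  cocone f h1 h2 := K573.Bdd.shift (K573.Bdd.mappingCone f h1 h2) (-1)
  shift X n h := K573.Bdd.shift h n

variable {X}

theorem hits_of_allHit {N : CM A} (H : AllHit X N) : Hits (TP X) (BddP C) (hh X N) := by
  intro Y hY y
  obtain ⟨T, p, s, hT, hs⟩ := H Y hY y
  exact ⟨T, hT.1, ((perfT_iff' X T).1 hT).2, p, s, hs⟩

theorem allHit_of_hits {N : CM A} (H : Hits (TP X) (BddP C) (hh X N)) : AllHit X N := by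
  intro Y hY y
  obtain ⟨T, hT, hTT, g, t, ht⟩ := H Y hY y
  exact ⟨T, g, t, (perfT_iff' X T).2 ⟨hT, hTT⟩, ht⟩

/-- **output of F4** in terms of `PerfT` -/
theorem exists_perfT_of_HL (H : HL (goodP (TP X) (BddP C)) (wP X (BddP C))) (j : ℤ) (Y : CochainComplex C ℤ)
    (hY : Bdd Y) (y : (X.usC.obj Y).homology j) :
    ∃ (T : CochainComplex C ℤ) (p : T ⟶ Y) (t : (X.usC.obj T).homology j), PerfT X T ∧
      (homologyMap (X.usC.map p) j).hom t = y := by
  obtain ⟨T, hT, hTT, g, t, ht⟩ := hits_of_HL closed_bdd H j Y hY y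
  exact ⟨T, g, t, (perfT_iff' X T).2 ⟨hT, hTT⟩, ht⟩

end

end Groth.Agent.ResProp.EF.K935
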