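import Groth.Agent.ResProp.EF.K935.TT
import Groth.Agent.ResProp.EF.K894.HL

/-!
# F4: from hits of the coefficient complexes to hits of all classes (assembly)

* `Hits.of_shift` : hits in degree `0` give hits in all degrees.
* `HL_of_hits` : if every class of `H^0(us Y ⊗ N)` is hit then `HL good (us - ⊗ N)`.
* `hits_of_HL` : `HL good (us -)` gives hits of all classes of `H^j(us Y)`.
-/

set_option autoImplicit false

universe w'' w' w v u t

open CategoryTheory CategoryTheory.Limits CategoryTheory.Pretriangulated HomologicalComplex CochainComplex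

namespace Groth.Agent.ResProp.EF.K935

open Groth.Agent.ResProp.EF.K294 Groth.Agent.ResProp.EF.K894 Groth.Agent.ResProp.EF.F5
open Groth.Agent.PerfB.RingKFlat

section Shift

variable {C : Type v} [Category.{w} C] [Abelian C] [HasDerivedCategory.{w'} C]
variable {TT : ObjectProperty (DerivedCategory C)} {P : ObjectProperty (CochainComplex C ℤ)}
variable {B : Type u} [Ring B] {h h' : CochainComplex C ℤ ⥤ ModuleCat.{w''} B}

/-- hits are stable under shifts of the theory -/
theorem Hits.of_shift [TT.IsTriangulated] [TT.IsClosedUnderIsomorphisms]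
    (hPs : ∀ (X : CochainComplex C ℤ) (n : ℤ), P X → P (X⟦n⟧)) (n : ℤ)
    (e : CategoryTheory.shiftFunctor (CochainComplex C ℤ) n ⋙ h ≅ h') (H : Hits TT P h) : Hits TT P h' := by
  intro Y hY y
  obtain ⟨T, hT, hTT, g, t, ht⟩ := H (Y⟦n⟧) (hPs Y n hY) ((e.inv.app Y).hom y)
  let i : (T⟦(-n : ℤ)⟧)⟦n⟧ ≅ T := (shiftEquiv (CochainComplex C ℤ) n).counitIso.app T
  let g' : T⟦(-n : ℤ)⟧ ⟶ Y := (CategoryTheory.shiftFunctor (CochainComplex C ℤ) n).preimage (i.hom ≫ g)
  have hg' : g'⟦n⟧' = i.hom ≫ g := (CategoryTheory.shiftFunctor (CochainComplex C ℤ) n).map_preimage _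
  refine ⟨T⟦(-n : ℤ)⟧, hPs T _ hT, ?_, g', (e.hom.app _).hom ((h.map i.inv).hom t), ?_⟩
  · exact TT.prop_of_iso ((DerivedCategory.Q.commShiftIso (-n)).symm.app T) (TT.le_shift (-n) _ hTT)
  · have h1 : (h'.map g').hom ((e.hom.app _).hom ((h.map i.inv).hom t)) =
        (e.hom.app _).hom ((h.map (g'⟦n⟧')).hom ((h.map i.inv).hom t)) := by
      have := congrArg (fun a => a.hom ((h.map i.inv).hom t)) (e.hom.naturality g')
      simpa using this.symm
    rw [h1, hg']
    have h2 : (h.map (i.hom ≫ g)).hom ((h.map i.inv).hom t) = (h.map g).hom t := by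
      rw [← ModuleCat.comp_apply, ← h.map_comp, Iso.inv_hom_id_assoc]
    rw [h2, ht]
    have := congrArg (fun a => a.hom y) (e.inv_hom_id_app Y)
    simpa only [ModuleCat.hom_comp, LinearMap.comp_apply, ModuleCat.hom_id, LinearMap.id_apply] using this

end Shift

section

variable {A : Type u} [CommRing A] {C : Type v} [Category.{w} C] [Abelian C] (X : Chart A C)
variable [HasDerivedCategory.{w'} C] (TT : ObjectProperty (DerivedCategory C))
variable (P : ObjectProperty (CochainComplex C ℤ))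

/-- evaluation on the chart of the complexes in `P` -/
noncomputable abbrev wP : P.FullSubcategory ⥤ CM A := P.ι ⋙ X.usC

/-- a class of complexes closed under cones and shifts -/
structure Closed : Prop extends ConeClosed P where
  shift : ∀ (X : CochainComplex C ℤ) (n : ℤ), P X → P (X⟦n⟧)

variable {X TT P}

omit [HasDerivedCategory.{w'} C] in
/-- `H^j(us Y ⊗ N)` as a shift of `H^0(us Y ⊗ N)` -/
noncomputable def hhShift (X : Chart A C) (N : CM A) (j : ℤ) :
    CategoryTheory.shiftFunctor (CochainComplex C ℤ) j ⋙ hh X N ≅ X.usC ⋙ tr N ⋙ hf A j :=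
  Functor.isoWhiskerRight (X.usC.commShiftIso j) (tr N ⋙ hf A 0) ≪≫
    Functor.isoWhiskerLeft X.usC (Functor.isoWhiskerRight ((tr N).commShiftIso j) (hf A 0)) ≪≫
    Functor.isoWhiskerLeft X.usC (Functor.isoWhiskerLeft (tr N)
      ((HomologicalComplex.homologyFunctor (ModuleCat.{u} A) (ComplexShape.up ℤ) 0).shiftIso j 0 j (by simp)))

omit [HasDerivedCategory.{w'} C] in
lemma hinv (X : Chart A C) (N : CM A) (j : ℤ) {K L : CochainComplex C ℤ} (f : K ⟶ L) (H : Homotopy f 0) :
    (X.usC ⋙ tr N ⋙ hf A j).map f = 0 := by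
  have h1 : Homotopy (X.usC.map f) 0 := (X.us.mapHomotopy H).trans (Homotopy.ofEq (by simp))
  have h2 : Homotopy (mapBifunctorMap (X.usC.map f) (𝟙 N) (TR A) (ComplexShape.up ℤ))
      (mapBifunctorMap 0 (𝟙 N) (TR A) (ComplexShape.up ℤ)) :=
    mapBifunctorMapHomotopy₁ h1 (𝟙 N) (TR A) (ComplexShape.up ℤ)
  have h3 := h2.homologyMap_eq j
  have h4 : (tr N).map (0 : X.usC.obj K ⟶ X.usC.obj L) = 0 := (tr N).map_zero _ _
  have h5 : homologyMap ((tr N).map (0 : X.usC.obj K ⟶ X.usC.obj L)) j = 0 := by rw [h4, homologyMap_zero]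
  exact h3.trans h5

/-- **hits ⇒ killed**, all degrees -/
theorem HL_of_hits [TT.IsTriangulated] [TT.IsClosedUnderIsomorphisms] (hP : Closed P) (N : CM A)
    (H : Hits TT P (hh X N)) : HL (goodP TT P) (wP X P ⋙ tr N) := fun j =>
  LL_of_hits (h := X.usC ⋙ tr N ⋙ hf A j) hP.toConeClosed (fun f Hf => hinv X N j f Hf)
    (H.of_shift hP.shift j (hhShift X N j))

instance : PreservesFiniteLimits X.us := X.exact_us

/-- `H^j(us Y) ≅ us H^j(Y)` -/
noncomputable def homUs (X : Chart A C) (j : ℤ) (K : CochainComplex C ℤ) :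
    (X.usC.obj K).homology j ≅ X.us.obj (K.homology j) :=
  (K.sc j).mapHomologyIso X.us

omit [HasDerivedCategory.{w'} C] in
lemma homUs_nat (X : Chart A C) (j : ℤ) {K L : CochainComplex C ℤ} (f : K ⟶ L) :
    homologyMap (X.usC.map f) j ≫ (homUs X j L).hom = (homUs X j K).hom ≫ X.us.map (homologyMap f j) :=
  ShortComplex.mapHomologyIso_hom_naturality ((shortComplexFunctor C _ j).map f) X.us

lemma comp_eq_apply {M₁ M₂ M₃ M₄ : ModuleCat.{u} A} {a : M₁ ⟶ M₂} {b : M₂ ⟶ M₄} {c : M₁ ⟶ M₃} {d : M₃ ⟶ M₄}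
    (e : a ≫ b = c ≫ d) (x : M₁) : b.hom (a.hom x) = d.hom (c.hom x) := by
  have := congrArg (fun g => g.hom x) e
  simpa only [ModuleCat.hom_comp, LinearMap.comp_apply] using this

lemma iso_inv_apply {M N : ModuleCat.{u} A} (e : M ≅ N) (x : N) : e.hom.hom (e.inv.hom x) = x := by
  have := congrArg (fun g => g.hom x) e.inv_hom_id
  simpa only [ModuleCat.hom_comp, LinearMap.comp_apply, ModuleCat.hom_id, LinearMap.id_apply] using this

lemma iso_inj {M N : ModuleCat.{u} A} (e : M ≅ N) : Function.Injective e.hom.hom := by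
  have : Function.LeftInverse e.inv.hom e.hom.hom := fun x => iso_inv_apply e.symm x
  exact this.injective

lemma hex (X : Chart A C) (j : ℤ) {K L : CochainComplex C ℤ} (f : K ⟶ L) (y : (X.usC ⋙ hf A j).obj K)
    (hy : ((X.usC ⋙ hf A j).map f).hom y = 0) :
    ∃ t : (X.usC ⋙ hf A j).obj (mappingCocone f), ((X.usC ⋙ hf A j).map (mappingCocone.fst f)).hom t = y := by
  have h1 := homologyMap_exact₂_of_distTriang _ (DerivedCategory.mappingCocone_triangle_distinguished f) j
  have h2 := (ShortComplex.moduleCat_exact_iff _).1 (h1.map X.us)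
  have h3 : (X.us.map (homologyMap f j)).hom ((homUs X j K).hom.hom y) = 0 := by
    have h4 := comp_eq_apply (homUs_nat X j f) y
    have h5 : (homologyMap (X.usC.map f) j).hom y = 0 := hy
    rw [h5, map_zero] at h4
    exact h4.symm
  obtain ⟨t, ht⟩ := h2 ((homUs X j K).hom.hom y) h3
  refine ⟨(homUs X j (mappingCocone f)).inv.hom t, iso_inj (homUs X j K) ?_⟩
  have h6 := comp_eq_apply (homUs_nat X j (mappingCocone.fst f)) ((homUs X j (mappingCocone f)).inv.hom t)
  have h7 : (homUs X j (mappingCocone f)).hom.hom ((homUs X j (mappingCocone f)).inv.hom t) = t :=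
    iso_inv_apply (homUs X j (mappingCocone f)) t
  exact h6.trans ((congrArg (X.us.map (homologyMap (mappingCocone.fst f) j)).hom h7).trans ht)

/-- **killed ⇒ hits** -/
theorem hits_of_HL [TT.IsTriangulated] [TT.IsClosedUnderIsomorphisms] (hP : Closed P)
    (H : HL (goodP TT P) (wP X P)) (j : ℤ) : Hits TT P (X.usC ⋙ hf A j) :=
  hits_of_LL hP.toConeClosed (fun f y hy => hex X j f y hy) (H j)

end

end Groth.Agent.ResProp.EF.K935
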