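import Groth.Agent.ResProp.EF.K294.Tor
import Groth.Agent.ResProp.EF.K894.LL
import Mathlib.Algebra.Homology.DerivedCategory.Fractions
import Mathlib.Algebra.Homology.DerivedCategory.HomologySequence
import Mathlib.Algebra.Homology.DerivedCategory.ExactFunctor
import Mathlib.CategoryTheory.Triangulated.Subcategory

/-!
# Good chain maps (S16912, F4)

`TT` is a triangulated subcategory of `D(C)` (`TTor X` : some lower Tor bound; `TPerf X` : moreover bounded with finite
terms). `good TT f` : the cone of the chain map `f` lies in `TT`. Classes which are hit from `TT` are killed by good maps,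
and conversely.
-/

set_option autoImplicit false

universe w'' w' w v u

open CategoryTheory CategoryTheory.Limits CategoryTheory.Pretriangulated HomologicalComplex CochainComplex

namespace Groth.Agent.ResProp.EF.K935

open Groth.Agent.ResProp.EF.K294 Groth.Agent.ResProp.EF.K894

section Good

variable {C : Type v} [Category.{w} C] [Abelian C] [HasDerivedCategory.{w'} C]
variable (TT : ObjectProperty (DerivedCategory C))

/-- `f` is good: its cone lies in `TT`. -/
def good : MorphismProperty (CochainComplex C ℤ) := TT.trW.inverseImage DerivedCategory.Q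

instance [TT.IsTriangulated] : (good TT).IsMultiplicative :=
  inferInstanceAs (TT.trW.inverseImage DerivedCategory.Q).IsMultiplicative

variable {TT}

lemma good_inr [TT.IsTriangulated] {T Y : CochainComplex C ℤ} (g : T ⟶ Y)
    (hT : TT (DerivedCategory.Q.obj T)) : good TT (mappingCone.inr g) :=
  ObjectProperty.trW.mk' TT (DerivedCategory.mappingCone_triangle_distinguished g) hT

lemma of_good [TT.IsTriangulated] [TT.IsClosedUnderIsomorphisms] {Y Y' : CochainComplex C ℤ} {f : Y ⟶ Y'}
    (hf : good TT f) : TT (DerivedCategory.Q.obj (mappingCocone f)) :=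
  (TT.trW_iff_of_distinguished' _ (DerivedCategory.mappingCocone_triangle_distinguished f)).1 hf

lemma good_of_quasiIso [TT.IsTriangulated] {Y Y' : CochainComplex C ℤ} (f : Y ⟶ Y') [QuasiIso f] : good TT f := by
  have : IsIso (DerivedCategory.Q.map f) := inferInstance
  exact TT.trW_of_isIso _

end Good

section Hits

variable {C : Type v} [Category.{w} C] [Abelian C] [HasDerivedCategory.{w'} C]
variable (TT : ObjectProperty (DerivedCategory C)) (P : ObjectProperty (CochainComplex C ℤ))
variable {B : Type u} [Ring B] (h : CochainComplex C ℤ ⥤ ModuleCat.{w''} B)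

/-- `P` is closed under cones and cocones. -/
structure ConeClosed : Prop where
  cone : ∀ {X Y : CochainComplex C ℤ} (f : X ⟶ Y), P X → P Y → P (mappingCone f)
  cocone : ∀ {X Y : CochainComplex C ℤ} (f : X ⟶ Y), P X → P Y → P (mappingCocone f)

/-- every class of `h.obj Y`, `P Y`, is hit by some `T ∈ TT`, `P T`. -/
def Hits : Prop := ∀ (Y : CochainComplex C ℤ), P Y → ∀ y : h.obj Y, ∃ (T : CochainComplex C ℤ) (_ : P T)
  (_ : TT (DerivedCategory.Q.obj T)) (g : T ⟶ Y) (t : h.obj T), (h.map g).hom t = y

/-- good maps between complexes in `P` -/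
abbrev goodP : MorphismProperty P.FullSubcategory := (good TT).inverseImage P.ι

variable {TT P h}

/-- hit ⇒ killed -/
theorem LL_of_hits [TT.IsTriangulated] (hP : ConeClosed P)
    (hh : ∀ {K L : CochainComplex C ℤ} (f : K ⟶ L), Homotopy f 0 → h.map f = 0)
    (H : Hits TT P h) : LL (goodP TT P) (P.ι ⋙ h) := by
  intro Y y
  obtain ⟨T, hT, hTT, g, t, rfl⟩ := H Y.obj Y.property y
  refine ⟨⟨mappingCone g, hP.cone g hT Y.property⟩, P.homMk (mappingCone.inr g), good_inr g hTT, ?_⟩
  change (h.map (mappingCone.inr g)).hom ((h.map g).hom t) = 0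
  have h0 : h.map g ≫ h.map (mappingCone.inr g) = 0 := by
    rw [← h.map_comp]
    exact hh _ (HomologicalComplex.homotopyCofiber.inrCompHomotopy g (fun j => ⟨j - 1, by simp⟩))
  have := congrArg (fun a => a.hom t) h0
  simpa using this

/-- killed ⇒ hit -/
theorem hits_of_LL [TT.IsTriangulated] [TT.IsClosedUnderIsomorphisms] (hP : ConeClosed P)
    (hex : ∀ {K L : CochainComplex C ℤ} (f : K ⟶ L) (y : h.obj K), (h.map f).hom y = 0 →
      ∃ t : h.obj (mappingCocone f), (h.map (mappingCocone.fst f)).hom t = y)
    (H : LL (goodP TT P) (P.ι ⋙ h)) : Hits TT P h := by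
  intro Y hY y
  obtain ⟨Y', f, hf, h0⟩ := H ⟨Y, hY⟩ y
  obtain ⟨t, ht⟩ := hex f.hom y h0
  exact ⟨mappingCocone f.hom, hP.cocone _ hY Y'.property, of_good hf, mappingCocone.fst f.hom, t, ht⟩

end Hits

end Groth.Agent.ResProp.EF.K935
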