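import Groth.Agent.ResProp.EF.K294.Tor

/-!
# OverZ (O2): localizations on `H^i(- ⊗ L)`

`STor S M`: every element of `M` is killed by an element of the multiplicative set `S` of natural numbers.
`SIso S f`: kernel and cokernel of `f` are `STor S`.
`sIso_homology_tens`: if `φ : K ⟶ K'` is `SIso S` on all terms then so is `H^i(φ ⊗ L)` for every test complex `L`.
-/

set_option autoImplicit false

universe w v u

open CategoryTheory CategoryTheory.Limits HomologicalComplex

namespace Groth.Agent.ResProp.EF.K935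

open Groth.Agent.ResProp.EF.K294 Groth.Agent.PerfB.RingKFlat
open scoped MonoidalCategory

/-- a multiplicative set of natural numbers -/
structure MulS (S : Set ℕ) : Prop where
  one : 1 ∈ S
  mul : ∀ m ∈ S, ∀ n ∈ S, m * n ∈ S

/-- all elements are killed by elements of `S` -/
def STor (S : Set ℕ) (M : Type*) [AddCommGroup M] : Prop := ∀ x : M, ∃ n ∈ S, (n : ℕ) • x = 0

/-- kernel and cokernel are killed by elements of `S` -/
def SIso (S : Set ℕ) {M N : Type*} [AddCommGroup M] [AddCommGroup N] (f : M → N) : Prop :=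
  (∀ x, f x = 0 → ∃ n ∈ S, (n : ℕ) • x = 0) ∧ ∀ y, ∃ n ∈ S, ∃ x, f x = (n : ℕ) • y

section elem

variable {S : Set ℕ} (hS : MulS S)

include hS

theorem SIso.comp {M N P : Type*} [AddCommGroup M] [AddCommGroup N] [AddCommGroup P] {f : M →+ N} {g : N →+ P}
    (hf : SIso S f) (hg : SIso S g) : SIso S (fun x => g (f x)) := by
  refine ⟨fun x hx => ?_, fun y => ?_⟩
  · obtain ⟨n, hn, h1⟩ := hg.1 _ hx
    rw [← map_nsmul] at h1
    obtain ⟨m, hm, h2⟩ := hf.1 _ h1
    exact ⟨m * n, hS.mul m hm n hn, by rw [mul_nsmul', h2]⟩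
  · obtain ⟨n, hn, z, hz⟩ := hg.2 y
    obtain ⟨m, hm, x, hx⟩ := hf.2 z
    exact ⟨m * n, hS.mul m hm n hn, x, by change g (f x) = _; rw [hx, map_nsmul, hz, mul_nsmul']⟩

theorem sIso_of_bijective {M N : Type*} [AddCommGroup M] [AddCommGroup N] {f : M →+ N}
    (hf : Function.Bijective f) : SIso S f := by
  refine ⟨fun x hx => ⟨1, hS.one, ?_⟩, fun y => ?_⟩
  · rw [one_nsmul]
    exact hf.1 (by rw [hx, map_zero])
  · obtain ⟨x, hx⟩ := hf.2 y
    exact ⟨1, hS.one, x, by rw [one_nsmul, hx]⟩

end elem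

section mod

variable {R : Type u} [CommRing R] {S : Set ℕ} (hS : MulS S)

/-- the `S`-torsion submodule -/
def torS (M : Type*) [AddCommGroup M] [Module R M] : Submodule R M where
  carrier := {x | ∃ n ∈ S, (n : ℕ) • x = 0}
  zero_mem' := ⟨1, hS.one, smul_zero _⟩
  add_mem' := by
    rintro x y ⟨m, hm, hx⟩ ⟨n, hn, hy⟩
    refine ⟨m * n, hS.mul m hm n hn, ?_⟩
    rw [smul_add, mul_nsmul' y m n, hy, smul_zero, add_zero, mul_comm, mul_nsmul' x n m, hx, smul_zero]
  smul_mem' := by
    rintro r x ⟨n, hn, hx⟩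
    exact ⟨n, hn, by rw [smul_comm, hx, smul_zero]⟩

include hS

theorem STor.tensor {M : ModuleCat.{u} R} (h : STor S M) (N : ModuleCat.{u} R) :
    STor S (((TR R).obj M).obj N) := by
  intro x
  change TensorProduct R M N at x
  induction x using TensorProduct.induction_on with
  | zero => exact ⟨1, hS.one, smul_zero _⟩
  | tmul a b =>
    obtain ⟨n, hn, h0⟩ := h a
    refine ⟨n, hn, ?_⟩
    change n • (TensorProduct.tmul R a b : TensorProduct R M N) = 0
    rw [TensorProduct.smul_tmul', h0, TensorProduct.zero_tmul]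
  | add a b ha hb =>
    exact (torS (R := R) hS (((TR R).obj M).obj N)).add_mem ha hb

theorem sTor_mb {K : CM R} (h : ∀ i, STor S (K.X i)) (L : CM R) (n : ℤ) :
    STor S ((mapBifunctor K L (TR R) (ComplexShape.up ℤ)).X n) := by
  have h0 : ModuleCat.ofHom (torS (R := R) hS ((mapBifunctor K L (TR R) (ComplexShape.up ℤ)).X n)).mkQ = 0 := by
    refine mapBifunctor.hom_ext (K₁ := K) (K₂ := L) (F := TR R) (c := ComplexShape.up ℤ) (fun p q hpq => ?_)
    ext x
    obtain ⟨m, hm, h1⟩ := (h p).tensor hS (L.X q) x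
    refine (Submodule.Quotient.mk_eq_zero _).2 ⟨m, hm, ?_⟩
    rw [← map_nsmul, h1, map_zero]
  intro x
  exact (Submodule.Quotient.mk_eq_zero _).1 (congrArg (fun k => k.hom x) h0)

theorem sTor_tens {K : CM R} (h : ∀ i, STor S (K.X i)) (L : CM R) (n : ℤ) : STor S ((tens K L).X n) :=
  sTor_mb hS h L n

omit hS in
theorem STor.homology {K : CM R} {i : ℤ} (h : STor S (K.X i)) : STor S (K.homology i) := by
  intro x
  obtain ⟨z, rfl⟩ := (ModuleCat.epi_iff_surjective (K.homologyπ i)).1 inferInstance x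
  obtain ⟨n, hn, h0⟩ := h ((K.iCycles i).hom z)
  refine ⟨n, hn, ?_⟩
  rw [← map_nsmul] at h0 ⊢
  have : (n : ℕ) • z = 0 := (ModuleCat.mono_iff_injective (K.iCycles i)).1 inferInstance (by rw [h0, map_zero])
  rw [this, map_zero]

end mod

section exact

variable {R : Type u} [CommRing R] {S : Set ℕ}

theorem elt_of_exact {T : ShortComplex (ModuleCat.{u} R)} (hT : T.Exact) (x : T.X₂) (hx : T.g.hom x = 0) :
    ∃ y, T.f.hom y = x := (ShortComplex.moduleCat_exact_iff T).1 hT x hx

theorem sIso_epi {T : ShortComplex (CM R)} (hT : T.ShortExact) (i : ℤ)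
    (h : STor S (T.X₁.homology i)) (h' : STor S (T.X₁.homology (i + 1))) : SIso S (homologyMap T.g i).hom := by
  refine ⟨fun x hx => ?_, fun y => ?_⟩
  · obtain ⟨c, rfl⟩ := elt_of_exact (hT.homology_exact₂ i) x hx
    obtain ⟨n, hn, h0⟩ := h c
    exact ⟨n, hn, by rw [← map_nsmul, h0, map_zero]⟩
  · obtain ⟨n, hn, h0⟩ := h' ((hT.δ i (i + 1) (by simp)).hom y)
    rw [← map_nsmul] at h0
    obtain ⟨x, hx⟩ := elt_of_exact (hT.homology_exact₃ i (i + 1) (by simp)) _ h0
    exact ⟨n, hn, x, hx⟩

theorem sIso_mono {T : ShortComplex (CM R)} (hT : T.ShortExact) (i : ℤ)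
    (h : STor S (T.X₃.homology (i - 1))) (h' : STor S (T.X₃.homology i)) : SIso S (homologyMap T.f i).hom := by
  refine ⟨fun x hx => ?_, fun y => ?_⟩
  · obtain ⟨c, rfl⟩ := elt_of_exact (hT.homology_exact₁ (i - 1) i (by simp)) x hx
    obtain ⟨n, hn, h0⟩ := h c
    exact ⟨n, hn, by rw [← map_nsmul, h0, map_zero]⟩
  · obtain ⟨n, hn, h0⟩ := h' ((homologyMap T.g i).hom y)
    rw [← map_nsmul] at h0
    obtain ⟨x, hx⟩ := elt_of_exact (hT.homology_exact₂ i) _ h0
    exact ⟨n, hn, x, hx⟩

variable (hS : MulS S) {K K' : CM R} (φ : K ⟶ K') (h : ∀ i, SIso S (φ.f i).hom)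

include h in
theorem sTor_kernel (i : ℤ) : STor S ((kernel φ).X i) := by
  intro x
  have h1 : (φ.f i).hom (((kernel.ι φ).f i).hom x) = 0 :=
    congrArg (fun k : kernel φ ⟶ K' => (k.f i).hom x) (kernel.condition φ)
  obtain ⟨n, hn, h0⟩ := (h i).1 _ h1
  have hm : Mono ((kernel.ι φ).f i) := (eval (ModuleCat.{u} R) (ComplexShape.up ℤ) i).map_mono (kernel.ι φ)
  exact ⟨n, hn, (ModuleCat.mono_iff_injective ((kernel.ι φ).f i)).1 hm (by rw [map_nsmul, h0, map_zero])⟩

include h in
theorem sTor_cokernel (i : ℤ) : STor S ((cokernel φ).X i) := by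
  intro y
  have hm : Epi ((cokernel.π φ).f i) := (eval (ModuleCat.{u} R) (ComplexShape.up ℤ) i).map_epi (cokernel.π φ)
  obtain ⟨z, rfl⟩ := (ModuleCat.epi_iff_surjective ((cokernel.π φ).f i)).1 hm y
  obtain ⟨n, hn, x, hx⟩ := (h i).2 z
  have h1 : ((cokernel.π φ).f i).hom ((φ.f i).hom x) = 0 :=
    congrArg (fun k : K ⟶ cokernel φ => (k.f i).hom x) (cokernel.condition φ)
  refine ⟨n, hn, ?_⟩
  rw [hx, map_nsmul] at h1
  exact h1

theorem shortExact_coimage : (ShortComplex.mk (kernel.ι φ) (Abelian.coimage.π φ)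
    (cokernel.condition (kernel.ι φ))).ShortExact where
  exact := ShortComplex.exact_cokernel (kernel.ι φ)
  mono_f := inferInstanceAs (Mono (kernel.ι φ))
  epi_g := inferInstanceAs (Epi (cokernel.π (kernel.ι φ)))

theorem shortExact_image : (ShortComplex.mk (Abelian.image.ι φ) (cokernel.π φ)
    (kernel.condition (cokernel.π φ))).ShortExact where
  exact := ShortComplex.exact_kernel (cokernel.π φ)
  mono_f := inferInstanceAs (Mono (kernel.ι (cokernel.π φ)))
  epi_g := inferInstanceAs (Epi (cokernel.π φ))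

include hS h in
/-- a localization on terms is a localization on `H^i(- ⊗ L)` -/
theorem sIso_homology_tens {L : CM R} (hL : IsTest L) (i : ℤ) : SIso S (homologyMap ((tensR L).map φ) i).hom := by
  have h1 : SIso S (homologyMap ((tensR L).map (Abelian.coimage.π φ)) i).hom :=
    sIso_epi (shortExact_tens (shortExact_coimage φ) hL) i
      (STor.homology (sTor_tens hS (sTor_kernel φ h) L i)) (STor.homology (sTor_tens hS (sTor_kernel φ h) L (i + 1)))
  have h3 : SIso S (homologyMap ((tensR L).map (Abelian.image.ι φ)) i).hom :=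
    sIso_mono (shortExact_tens (shortExact_image φ) hL) i
      (STor.homology (sTor_tens hS (sTor_cokernel φ h) L (i - 1))) (STor.homology (sTor_tens hS (sTor_cokernel φ h) L i))
  have h2 : SIso S (homologyMap ((tensR L).map (Abelian.coimageImageComparison φ)) i).hom := by
    refine sIso_of_bijective hS (f := (homologyMap ((tensR L).map (Abelian.coimageImageComparison φ)) i).hom.toAddMonoidHom) ?_
    exact (ConcreteCategory.isIso_iff_bijective (homologyMap ((tensR L).map (Abelian.coimageImageComparison φ)) i)).1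
      inferInstance
  have h4 := Abelian.coimage_image_factorisation φ
  have h5 : homologyMap ((tensR L).map φ) i = homologyMap ((tensR L).map (Abelian.coimage.π φ)) i ≫
      homologyMap ((tensR L).map (Abelian.coimageImageComparison φ)) i ≫
      homologyMap ((tensR L).map (Abelian.image.ι φ)) i := by
    rw [← homologyMap_comp, ← homologyMap_comp, ← Functor.map_comp, ← Functor.map_comp, h4]
  rw [h5]
  exact SIso.comp hS (f := (homologyMap ((tensR L).map (Abelian.coimage.π φ)) i).hom.toAddMonoidHom)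
    (g := (homologyMap ((tensR L).map (Abelian.coimageImageComparison φ)) i ≫
      homologyMap ((tensR L).map (Abelian.image.ι φ)) i).hom.toAddMonoidHom) h1
    (SIso.comp hS (f := (homologyMap ((tensR L).map (Abelian.coimageImageComparison φ)) i).hom.toAddMonoidHom)
      (g := (homologyMap ((tensR L).map (Abelian.image.ι φ)) i).hom.toAddMonoidHom) h2 h3)

end exact

end Groth.Agent.ResProp.EF.K935
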