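import Groth.Agent.ResProp.EF.K935.HasL
import Groth.Agent.ResProp.EF.K940.QLoc
import Groth.Agent.ResProp.EF.K353.Abs

/-!
# OverZ (O2): localizations of bounded complexes of comodules exist

`exists_loc`: for a submonoid `S` of `ℤ` and a bounded complex `Y` of `Comod A` there is `f : Y ⟶ Y'`, `Y'` bounded with
`S`-local terms, such that all `H^i(v^* f ⊗ L)`, `L` a test complex, have `S`-torsion kernel and cokernel.
`hasL_q`, `hasL_p`: the same for `S` = the numbers prime to `q`, the powers of `p`.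
-/

set_option autoImplicit false
set_option linter.dupNamespace false
set_option linter.style.haveILetI false
set_option backward.isDefEq.respectTransparency false

open CategoryTheory CategoryTheory.Limits Opposite HomologicalComplex

namespace Groth.Agent.ResProp.EF.K935

open EF56 K784.BC K784.PM K353 K940 Groth.Agent.ResProp.EF.K294

universe u

/-- `S⁻¹ ℤ` in the universe `u` -/
def LS (S : Submonoid ℤ) : Type u := ULift.{u} (Localization S)

noncomputable instance (S : Submonoid ℤ) : CommRing (LS.{u} S) := inferInstanceAs (CommRing (ULift.{u} (Localization S)))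

instance isLocalization_LS (S : Submonoid ℤ) : IsLocalization S (LS.{u} S) :=
  IsLocalization.isLocalization_of_algEquiv S
    (AlgEquiv.ofRingEquiv (f := ((ULift.ringEquiv : ULift.{u} (Localization S) ≃+* Localization S).symm :
      Localization S ≃+* LS.{u} S)) (fun n => by simp) : Localization S ≃ₐ[ℤ] LS.{u} S)

/-- the natural numbers in a submonoid of `ℤ` -/
abbrev natS (S : Submonoid ℤ) : Set ℕ := {n | (n : ℤ) ∈ S}

theorem mulS_natS (S : Submonoid ℤ) : MulS (natS S) where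
  one := by
    change ((1 : ℕ) : ℤ) ∈ S
    rw [Nat.cast_one]
    exact S.one_mem
  mul m hm n hn := by
    change ((m * n : ℕ) : ℤ) ∈ S
    rw [Nat.cast_mul]
    exact S.mul_mem hm hn

theorem exists_nat {S : Submonoid ℤ} {s : ℤ} (hs : s ∈ S) : ∃ n : ℕ, n ∈ natS S ∧ (n : ℤ) = s * s := by
  refine ⟨(s * s).natAbs, ?_, ?_⟩
  · change (((s * s).natAbs : ℕ) : ℤ) ∈ S
    rw [Int.natAbs_of_nonneg (mul_self_nonneg s)]
    exact S.mul_mem hs hs
  · exact Int.natAbs_of_nonneg (mul_self_nonneg s)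

variable {A B : NFᵒᵖ ⥤ CommRingCat.{u}} {j : A ⟶ B} {S : Submonoid ℤ}

/-- the unit `M ⟶ S⁻¹ M` is a localization on `v^*` -/
theorem sIso_ηC (hj : CartHom j) (h : IsLocHom S j) (M : Comod A) :
    SIso (natS S) ((vst A).map ((ηC hj).app M)).hom := by
  haveI := isLocalizedModule_ηC hj h M
  constructor
  · intro x hx
    obtain ⟨⟨_, s, hs, rfl⟩, hc⟩ := (IsLocalizedModule.eq_zero_iff
      (Algebra.algebraMapSubmonoid (A.obj (op ⟨0⟩)) S) ((vst A).map ((ηC hj).app M)).hom).1 hx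
    have h1 : (s : ℤ) • x = 0 := by
      have : algebraMap ℤ (A.obj (op ⟨0⟩)) s • x = 0 := hc
      rwa [algebraMap_smul] at this
    obtain ⟨n, hn, h2⟩ := exists_nat hs
    refine ⟨n, hn, ?_⟩
    rw [← natCast_zsmul, h2, mul_smul, h1, smul_zero]
  · intro y
    obtain ⟨⟨x, ⟨_, s, hs, rfl⟩⟩, hx⟩ := IsLocalizedModule.surj
      (Algebra.algebraMapSubmonoid (A.obj (op ⟨0⟩)) S) ((vst A).map ((ηC hj).app M)).hom y
    have h1 : (s : ℤ) • y = ((vst A).map ((ηC hj).app M)).hom x := by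
      have : algebraMap ℤ (A.obj (op ⟨0⟩)) s • y = ((vst A).map ((ηC hj).app M)).hom x := hx
      rwa [algebraMap_smul] at this
    obtain ⟨n, hn, h2⟩ := exists_nat hs
    refine ⟨n, hn, (s : ℤ) • x, ?_⟩
    rw [map_zsmul, ← h1, ← natCast_zsmul, h2, mul_smul]

variable [Fact (GR A)]

/-- **localizations of bounded complexes of comodules exist** -/
theorem exists_loc (S : Submonoid ℤ) (Y : CochainComplex (Comod A) ℤ) (hY : Bdd Y) :
    ∃ (Y' : CochainComplex (Comod A) ℤ) (f : Y ⟶ Y'), Bdd Y' ∧ (∀ i : ℤ, ∀ s ∈ S, IsIso ((s : ℤ) • 𝟙 (Y'.X i))) ∧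
      ∀ L : CM (A.obj (op ⟨0⟩)), IsTest L → ∀ i : ℤ, SIso (natS S) ((hh (vst A) L i).map f).hom := by
  have hj : CartHom (K944.jl (LS.{u} S) A) := K944.cartHom_jl A
  have h : IsLocHom S (K944.jl (LS.{u} S) A) := isLocHom_jl
  haveI : Fact (GR (K944.lam (LS.{u} S) A)) := ⟨K944.gr_lam Fact.out⟩
  let Y' : CochainComplex (Comod A) ℤ := ((resC hj).mapHomologicalComplex (ComplexShape.up ℤ)).obj
    (((bcC (K944.jl (LS.{u} S) A)).mapHomologicalComplex (ComplexShape.up ℤ)).obj Y)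
  let f : Y ⟶ Y' :=
    { f := fun i => (ηC hj).app (Y.X i), comm' := fun i k _ => ((ηC hj).naturality (Y.d i k)).symm }
  refine ⟨Y', f, bdd_map _ (bdd_map _ hY), fun i => ?_, fun L hL i => ?_⟩
  · exact (sLocal_iff_isIso _).1 (sLocal_resC hj h _)
  · have h1 : ∀ i : ℤ, SIso (natS S) (((vC (vst A)).map f).f i).hom := fun i => sIso_ηC hj h (Y.X i)
    exact sIso_homology_tens (mulS_natS S) ((vC (vst A)).map f) h1 hL i

/-- localization at the numbers prime to `q` -/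
theorem hasL_q {q : ℕ} (hq : q.Prime) (Y : CochainComplex (Comod A) ℤ) (hY : Bdd Y) :
    ∃ (Y' : CochainComplex (Comod A) ℤ) (f : Y ⟶ Y'), Bdd Y' ∧
      (∀ i : ℤ, ∀ n ∈ Ctx.Sq q, IsIso ((n : ℤ) • 𝟙 (Y'.X i))) ∧
      ∀ L : CM (A.obj (op ⟨0⟩)), IsTest L → ∀ i : ℤ, SIso (Ctx.Sq q) ((hh (vst A) L i).map f).hom := by
  haveI : Fact q.Prime := ⟨hq⟩
  have hS : natS (SZ q) = Ctx.Sq q := Set.ext fun n => mem_SZ.trans (by rw [Int.natAbs_natCast]; rfl)
  obtain ⟨Y', f, h1, h2, h3⟩ := exists_loc (SZ q) Y hY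
  refine ⟨Y', f, h1, fun i n hn => h2 i n ?_, fun L hL i => hS ▸ h3 L hL i⟩
  rw [← hS] at hn
  exact hn

/-- localization at the powers of `p` -/
theorem hasL_p (p : ℕ) (Y : CochainComplex (Comod A) ℤ) (hY : Bdd Y) :
    ∃ (Y' : CochainComplex (Comod A) ℤ) (f : Y ⟶ Y'), Bdd Y' ∧
      (∀ i : ℤ, ∀ n ∈ Ctx.Sp p, IsIso ((n : ℤ) • 𝟙 (Y'.X i))) ∧
      ∀ L : CM (A.obj (op ⟨0⟩)), IsTest L → ∀ i : ℤ, SIso (Ctx.Sp p) ((hh (vst A) L i).map f).hom := by
  have hS : natS (Submonoid.powers (p : ℤ)) = Ctx.Sp p := by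
    ext n
    constructor
    · rintro ⟨k, hk⟩
      refine ⟨k, ?_⟩
      have hk' : ((p ^ k : ℕ) : ℤ) = (n : ℤ) := by rw [Nat.cast_pow]; exact hk
      exact_mod_cast hk'.symm
    · rintro ⟨k, rfl⟩
      exact ⟨k, by simp⟩
  obtain ⟨Y', f, h1, h2, h3⟩ := exists_loc (Submonoid.powers (p : ℤ)) Y hY
  refine ⟨Y', f, h1, fun i n hn => h2 i n ?_, fun L hL i => hS ▸ h3 L hL i⟩
  rw [← hS] at hn
  exact hn

end Groth.Agent.ResProp.EF.K935
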