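import Groth.Agent.ResProp.EF.K935.Point
import Groth.Agent.ResProp.EF.K408.HitLoc

/-!
# `K408.LocHits` from `AllHit` (F4 ⇒ seam LOC)
-/

set_option autoImplicit false

universe w v u

open CategoryTheory CategoryTheory.Limits HomologicalComplex

namespace Groth.Agent.ResProp.EF.K935

open Groth.Agent.ResProp.EF.K294 Groth.Agent.ResProp.EF.K894 Groth.Agent.ResProp.EF.F5
open Groth.Agent.PerfB.RingKFlat

variable {A : Type u} [CommRing A] {C : Type v} [Category.{w} C] [Abelian C] (X : Chart A C)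

/-- **hits at one point**: input of `K408.hq_of_locHits`, `K408.hqFg_of_locHits`. -/
theorem locHits (N : CM A) (b : ℤ) [N.IsStrictlyLE b] (hN : ∀ n, Module.Flat A (N.X n))
    (H : AllHit X N) {k : Type u} [Field k] [Algebra A k] (i : ℤ)
    (hi : ¬ ((((TR A).flip.obj (ModuleCat.of A k)).mapHomologicalComplex (ComplexShape.up ℤ)).obj N).ExactAt i)
    (L : CM A) (c : ℤ) [L.IsStrictlyLE c] (hL : ∀ n, Module.Flat A (L.X n))
    (ε : L ⟶ (single (ModuleCat.{u} A) (ComplexShape.up ℤ) 0).obj (ModuleCat.of A k)) [QuasiIso ε]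
    (j : ℤ) : K408.LocHits X.us L j := by
  intro Y hY y
  obtain ⟨T, p, t, hT, ht⟩ := exists_perfT_point (X := X) N b hN H i hi L c hL ε j Y hY y
  exact ⟨T, p, t, hT.1, hT.2, ht⟩

end Groth.Agent.ResProp.EF.K935
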