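import Groth.Agent.ResProp.EF.K935.Good
import Groth.Agent.ResProp.EF.F5.Iface
import Mathlib.Algebra.Homology.DerivedCategory.KProjective

/-!
# The two classes `TTor` and `TPerf` (S16912, F4): definitions and statements
-/

set_option autoImplicit false

universe w'' w' w v u

open CategoryTheory CategoryTheory.Limits CategoryTheory.Pretriangulated HomologicalComplex CochainComplex

namespace Groth.Agent.ResProp.EF.K935

open Groth.Agent.ResProp.EF.K294 Groth.Agent.ResProp.EF.K894 Groth.Agent.ResProp.EF.F5

section Mod

variable (A : Type u) [CommRing A] [HasDerivedCategory.{w''} (ModuleCat.{u} A)]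

/-- some lower Tor bound -/
def TorD : ObjectProperty (DerivedCategory (ModuleCat.{u} A)) :=
  fun E => ∃ (K : CM A) (a : ℤ), TorGE a K ∧ Nonempty (DerivedCategory.Q.obj K ≅ E)

/-- perfect complexes -/
def PerfD : ObjectProperty (DerivedCategory (ModuleCat.{u} A)) :=
  fun E => ∃ K : CM A, Perf K ∧ Nonempty (DerivedCategory.Q.obj K ≅ E)

/-- NODE F4-a -/
def StmtTorD : Prop := (TorD A).IsTriangulated ∧ (TorD A).IsClosedUnderIsomorphisms

/-- NODE F4-b -/
def StmtPerfD : Prop := (PerfD A).IsTriangulated ∧ (PerfD A).IsClosedUnderIsomorphisms ∧ PerfD A ≤ TorD A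

end Mod

section Chart

variable {A : Type u} [CommRing A] {C : Type v} [Category.{w} C] [Abelian C] (X : Chart A C)
  [HasDerivedCategory.{w''} (ModuleCat.{u} A)] [HasDerivedCategory.{w'} C]

instance : PreservesFiniteColimits X.us := by
  have := X.adj.leftAdjoint_preservesColimits
  infer_instance

/-- objects of `D(C)` with some lower Tor bound on the chart -/
def TTor : ObjectProperty (DerivedCategory C) := (TorD A).inverseImage X.us.mapDerivedCategory

/-- objects of `D(C)` which are perfect on the chart -/
def TPerf : ObjectProperty (DerivedCategory C) := (PerfD A).inverseImage X.us.mapDerivedCategory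

/-- NODE F4-c -/
def StmtTTorIff : Prop := ∀ T : CochainComplex C ℤ,
  TTor X (DerivedCategory.Q.obj T) ↔ ∃ a : ℤ, TorGE a (X.usC.obj T)

/-- NODE F4-d -/
def StmtTPerfIff : Prop := ∀ T : CochainComplex C ℤ, Bdd T →
  (TPerf X (DerivedCategory.Q.obj T) ↔ PerfT X T)

end Chart

end Groth.Agent.ResProp.EF.K935
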